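import Mathlib

/-!
# Taylor expansion in a discrete valuation ring with a coefficient field
-/

set_option linter.all false
set_option autoImplicit false

universe u

open scoped Polynomial

namespace GrothLib.Taylor10

variable {k B : Type u} [Field k] [CommRing B] (φ : k →+* B) (t : B)

/-- `q` is the Taylor series of `y` in `t`. -/
def IsTaylor (y : B) (q : PowerSeries k) : Prop :=
  ∀ N : ℕ, t ^ N ∣ y - Polynomial.eval₂ φ t (PowerSeries.trunc N q)

theorem dvd_eval₂ {p : k[X]} {N : ℕ} (hp : ∀ i < N, p.coeff i = 0) : t ^ N ∣ Polynomial.eval₂ φ t p := by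
  obtain ⟨q, rfl⟩ := Polynomial.X_pow_dvd_iff.mpr hp
  exact ⟨_, by rw [Polynomial.eval₂_mul, Polynomial.eval₂_X_pow]⟩

theorem IsTaylor.mul {y z : B} {q r : PowerSeries k} (h : IsTaylor φ t y q) (h' : IsTaylor φ t z r) :
    IsTaylor φ t (y * z) (q * r) := fun N => by
  set A := Polynomial.eval₂ φ t (PowerSeries.trunc N q)
  set C := Polynomial.eval₂ φ t (PowerSeries.trunc N r)
  have h3 : t ^ N ∣ A * C - Polynomial.eval₂ φ t (PowerSeries.trunc N (q * r)) := by
    rw [← Polynomial.eval₂_mul, ← Polynomial.eval₂_sub]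
    refine dvd_eval₂ φ t fun i hi => ?_
    rw [Polynomial.coeff_sub, PowerSeries.coeff_trunc, if_pos hi,
      PowerSeries.coeff_mul_eq_coeff_trunc_mul_trunc q r hi, ← Polynomial.coe_mul, Polynomial.coeff_coe,
      sub_self]
  rw [show y * z - Polynomial.eval₂ φ t (PowerSeries.trunc N (q * r)) =
    (y - A) * z + A * (z - C) + (A * C - Polynomial.eval₂ φ t (PowerSeries.trunc N (q * r))) by ring]
  exact dvd_add (dvd_add (Dvd.dvd.mul_right (h N) z) (Dvd.dvd.mul_left (h' N) A)) h3

theorem IsTaylor.add {y z : B} {q r : PowerSeries k} (h : IsTaylor φ t y q) (h' : IsTaylor φ t z r) :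
    IsTaylor φ t (y + z) (q + r) := fun N => by
  rw [map_add, Polynomial.eval₂_add, add_sub_add_comm]
  exact dvd_add (h N) (h' N)

theorem isTaylor_C (a : k) : IsTaylor φ t (φ a) (PowerSeries.C a) := fun N => by
  rcases N with _ | N
  · simp
  · rw [PowerSeries.trunc_C, Polynomial.eval₂_C, sub_self]; exact dvd_zero _

theorem exists_powerSeries_hom [IsDomain B] [IsDiscreteValuationRing B] (ev : B →+* k) [IsLocalHom ev]
    (hev : ev.comp φ = RingHom.id k) :
    ∃ ψ : B →+* PowerSeries k, PowerSeries.constantCoeff.comp ψ = ev ∧ Function.Injective ψ := by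
  obtain ⟨t, ht⟩ := IsDiscreteValuationRing.exists_irreducible B
  have ht0 := ht.ne_zero
  have hevφ : ∀ a, ev (φ a) = a := fun a => RingHom.congr_fun hev a
  have hevt : ev t = 0 := by
    by_contra h
    exact ht.not_isUnit (IsUnit.of_map ev t (isUnit_iff_ne_zero.mpr h))
  have hdvd : ∀ b, t ∣ b - φ (ev b) := fun b => by
    rw [← Ideal.mem_span_singleton, ← (IsDiscreteValuationRing.irreducible_iff_uniformizer t).mp ht,
      IsLocalRing.mem_maximalIdeal, mem_nonunits_iff]
    intro hu
    exact not_isUnit_zero (show IsUnit (0 : k) by simpa [hevφ] using hu.map ev)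
  choose next hnext using hdvd
  let q : B → PowerSeries k := fun b => PowerSeries.mk fun n => ev (next^[n] b)
  have hq : ∀ b, IsTaylor φ t b (q b) := by
    intro b N
    refine ⟨next^[N] b, ?_⟩
    induction N with
    | zero => simp
    | succ N ih =>
      rw [PowerSeries.trunc_succ, Polynomial.eval₂_add, ← sub_sub, ih, Polynomial.eval₂_monomial,
        Function.iterate_succ_apply', pow_succ, mul_assoc, ← hnext]
      simp only [q, PowerSeries.coeff_mk]
      ring
  have huniq : ∀ {y : B} {r r' : PowerSeries k}, IsTaylor φ t y r → IsTaylor φ t y r' → r = r' := by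
    intro y r r' h h'
    ext n
    induction n using Nat.strong_induction_on with
    | _ n ih =>
      have h1 := dvd_sub (h' (n + 1)) (h (n + 1))
      rw [sub_sub_sub_cancel_left, ← Polynomial.eval₂_sub] at h1
      have hp : PowerSeries.trunc (n + 1) r - PowerSeries.trunc (n + 1) r' =
          Polynomial.C (PowerSeries.coeff n r - PowerSeries.coeff n r') * Polynomial.X ^ n := by
        ext i
        rw [Polynomial.coeff_sub, PowerSeries.coeff_trunc, PowerSeries.coeff_trunc,
          Polynomial.coeff_C_mul_X_pow]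
        rcases lt_trichotomy i n with hi | rfl | hi
        · rw [if_pos (by omega), if_pos (by omega), if_neg (by omega), ih i hi, sub_self]
        · simp
        · rw [if_neg (by omega), if_neg (by omega), if_neg (by omega), sub_self]
      rw [hp, Polynomial.eval₂_mul, Polynomial.eval₂_C, Polynomial.eval₂_X_pow, pow_succ, mul_comm (φ _),
        mul_dvd_mul_iff_left (pow_ne_zero n ht0)] at h1
      obtain ⟨c, hc⟩ := h1
      have h2 := congrArg ev hc
      rw [hevφ, map_mul, hevt, zero_mul] at h2
      exact sub_eq_zero.mp h2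
  let ψ : B →+* PowerSeries k :=
    { toFun := q
      map_one' := huniq (hq 1) (by simpa using isTaylor_C φ t (1 : k))
      map_zero' := huniq (hq 0) (by simpa using isTaylor_C φ t (0 : k))
      map_mul' := fun a b => huniq (hq (a * b)) ((hq a).mul φ t (hq b))
      map_add' := fun a b => huniq (hq (a + b)) ((hq a).add φ t (hq b)) }
  refine ⟨ψ, RingHom.ext fun b => ?_, (injective_iff_map_eq_zero _).mpr fun b hb => ?_⟩
  · show PowerSeries.constantCoeff (q b) = ev b
    rw [← PowerSeries.coeff_zero_eq_constantCoeff_apply, PowerSeries.coeff_mk, Function.iterate_zero_apply]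
  · have h1 : ∀ N, t ^ N ∣ b := fun N => by
      have h2 := hq b N
      rw [show q b = 0 from hb] at h2
      simpa using h2
    have : b ∈ ⨅ N : ℕ, Ideal.span {t} ^ N :=
      (Submodule.mem_iInf _).mpr fun N => by rw [Ideal.span_singleton_pow, Ideal.mem_span_singleton]; exact h1 N
    rwa [Ideal.iInf_pow_eq_bot_of_isLocalRing _ (by
      rw [ne_eq, Ideal.span_singleton_eq_top]; exact ht.not_isUnit), Ideal.mem_bot] at this

end GrothLib.Taylor10
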